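import Groth.Agent.TorBalance.Basic
import Groth.Agent.TorBalance.LESFlip

/-!
`Tor` is symmetric, naturally in both variables.
-/

set_option autoImplicit false
set_option linter.style.haveILetI false
universe v u

open CategoryTheory Limits MonoidalCategory HomologicalComplex

namespace Groth.Agent.TorBalance

section Single

open Groth.Agent.KFlat

variable {A : Type u} [Category.{v} A] [Abelian A] (B : A ⥤ A ⥤ A) [B.Additive]
  [∀ X, (B.obj X).Additive]
  [∀ K L : CochainComplex A ℤ, HomologicalComplex.HasMapBifunctor K L B (ComplexShape.up ℤ)]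

theorem leftSingleIso_naturality_left {F F' : A} (f : F ⟶ F') (L : CochainComplex A ℤ) :
    (NatTrans.mapHomologicalComplex (B.map f) (ComplexShape.up ℤ)).app L ≫ ((leftSingleIso B F').app L).hom =
      ((leftSingleIso B F).app L).hom ≫ ((tens B).map ((single A (ComplexShape.up ℤ) 0).map f)).app L := by
  ext n
  change (B.map f).app (L.X n) ≫ _ ≫ _ = (_ ≫ _) ≫ (((tens B).map _).app L).f n
  rw [map_app_f, Category.assoc]
  erw [ι_tt]
  rw [CategoryTheory.Functor.map_id, Category.id_comp]
  erw [← NatTrans.comp_app_assoc, ← NatTrans.comp_app_assoc, ← Functor.map_comp, ← Functor.map_comp]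
  rw [single_map_f_self, Iso.inv_hom_id_assoc]

theorem rightSingleIso_naturality_left {L L' : CochainComplex A ℤ} (φ : L ⟶ L') (F : A) :
    ((B.flip.obj F).mapHomologicalComplex (ComplexShape.up ℤ)).map φ ≫ (rightSingleIso B L' F).hom =
      (rightSingleIso B L F).hom ≫ ((tens B).map φ).app ((single A (ComplexShape.up ℤ) 0).obj F) := by
  ext n
  change (B.map (φ.f n)).app F ≫ _ ≫ _ = (_ ≫ _) ≫ (((tens B).map φ).app _).f n
  rw [map_app_f, Category.assoc]
  erw [ι_tt]
  rw [CategoryTheory.Functor.map_id, Category.id_comp]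
  exact ((B.map (φ.f n)).naturality_assoc (singleObjXSelf (ComplexShape.up ℤ) 0 F).inv _).symm

end Single

open Groth.Agent.DRingKP (tB tBraid resToSingle isKFlat_res)

variable {A : Type u} [CommRing A]

local notation "emb" => ComplexShape.embeddingDownNat
local notation "Hz" => fun (p : ℕ) => HomologicalComplex.homologyFunctor (ModuleCat _) (ComplexShape.up ℤ) (-(p : ℤ))

theorem balanceObj_naturality_left (p : ℕ) {M M' N : ModuleCat.{u} A} (f : M ⟶ M') (P : ProjectiveResolution M)
    (P' : ProjectiveResolution M') (φ : P.complex ⟶ P'.complex) (comm : φ.f 0 ≫ P'.π.f 0 = P.π.f 0 ≫ f)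
    (Q : ProjectiveResolution N) :
    ((CategoryTheory.Tor (ModuleCat.{u} A) p).map f).app N ≫ (balanceObj P' p Q).hom =
      (balanceObj P p Q).hom ≫
        homologyMap ((((tB A).flip.obj N).mapHomologicalComplex (ComplexShape.down ℕ)).map φ) p := by
  haveI h1 := quasiIso_left P Q.cochainComplex (isKFlat_res Q)
  haveI h1' := quasiIso_left P' Q.cochainComplex (isKFlat_res Q)
  haveI h2 := quasiIso_right P Q
  haveI h2' := quasiIso_right P' Q
  let Φ : ProjectiveResolution.Hom P P' f := ⟨φ, comm.trans (by simp)⟩
  have hπ : Φ.hom' ≫ resToSingle P' =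
      resToSingle P ≫ (HomologicalComplex.single (ModuleCat.{u} A) (ComplexShape.up ℤ) 0).map f :=
    Φ.hom'_comp_π'
  have s1 : ((CategoryTheory.Tor (ModuleCat.{u} A) p).map f).app N ≫ (Q.isoLeftDerivedObj ((tB A).obj M') p).hom =
      (Q.isoLeftDerivedObj ((tB A).obj M) p).hom ≫
        homologyMap ((NatTrans.mapHomologicalComplex ((tB A).map f) _).app Q.complex) p := by
    show (NatTrans.leftDerived ((tB A).map f) p).app N ≫ _ = _
    rw [ProjectiveResolution.leftDerived_app_eq _ Q, Category.assoc, Category.assoc]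
    refine (congrArg (_ ≫ ·) (congrArg (_ ≫ ·) (Iso.inv_hom_id _))).trans ?_
    rw [Category.comp_id]
    rfl
  have s5 : homologyMap (((KFlat.tens (tB A)).map Φ.hom').app Q.cochainComplex) (-(p : ℤ)) ≫
      (isoOfQuasiIsoAt (((KFlat.tens (tB A)).map (resToSingle P')).app Q.cochainComplex) (-(p : ℤ))).hom =
      (isoOfQuasiIsoAt (((KFlat.tens (tB A)).map (resToSingle P)).app Q.cochainComplex) (-(p : ℤ))).hom ≫
      homologyMap (((KFlat.tens (tB A)).map ((HomologicalComplex.single (ModuleCat.{u} A) (ComplexShape.up ℤ) 0).map f)).app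
        Q.cochainComplex) (-(p : ℤ)) := by
    rw [isoOfQuasiIsoAt_hom, isoOfQuasiIsoAt_hom, ← homologyMap_comp, ← homologyMap_comp,
      ← NatTrans.comp_app, ← NatTrans.comp_app, ← Functor.map_comp, ← Functor.map_comp, hπ]
  have s6 : homologyMap (((KFlat.tens (tB A)).map Φ.hom').app Q.cochainComplex) (-(p : ℤ)) ≫
      (isoOfQuasiIsoAt (((KFlat.tens (tB A)).obj P'.cochainComplex).map (resToSingle Q)) (-(p : ℤ))).hom =
      (isoOfQuasiIsoAt (((KFlat.tens (tB A)).obj P.cochainComplex).map (resToSingle Q)) (-(p : ℤ))).hom ≫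
      homologyMap (((KFlat.tens (tB A)).map Φ.hom').app
        ((HomologicalComplex.single (ModuleCat.{u} A) (ComplexShape.up ℤ) 0).obj N)) (-(p : ℤ)) := by
    rw [isoOfQuasiIsoAt_hom, isoOfQuasiIsoAt_hom, ← homologyMap_comp, ← homologyMap_comp,
      ((KFlat.tens (tB A)).map Φ.hom').naturality]
  refine sq_trans s1
    (sq_trans (sq_symm (HomologicalComplex.extendHomologyIso_hom_naturality _ _ _))
    (sq_trans (sq_map (Hz p) (sq_trans (sq_symm (mapExtendIso_natTrans emb ((tB A).map f) Q.complex))
      (leftSingleIso_naturality_left (tB A) f Q.cochainComplex)))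
    (sq_trans (sq_symm s5) (sq_trans s6
    (sq_trans (sq_map (Hz p) (sq_trans (sq_symm (rightSingleIso_naturality_left (tB A) Φ.hom' N))
      (mapExtendIso_naturality ((tB A).flip.obj N) emb φ)))
    (HomologicalComplex.extendHomologyIso_hom_naturality _ _ _))))))

/-- `C ⊗ N ≅ N ⊗ C`. -/
noncomputable def braidCx (C : ChainComplex (ModuleCat.{u} A) ℕ) : cxR C ≅ cxL C :=
  NatIso.ofComponents (fun N => Hom.isoOfComponents (fun n => β_ (C.X n) N) fun i j _ =>
      (BraidedCategory.braiding_naturality_left (C.d i j) N).symm)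
    fun {N N'} f => by
      ext n : 1
      exact BraidedCategory.braiding_naturality_right (C.X n) f

/-- `Tor` at a fixed first variable against `Tor` at a fixed second one. -/
noncomputable def symmObj (p : ℕ) (M : ModuleCat.{u} A) :
    (CategoryTheory.Tor (ModuleCat.{u} A) p).obj M ≅ (CategoryTheory.Tor (ModuleCat.{u} A) p).flip.obj M :=
  balanceIso (projectiveResolution M) p ≪≫ Functor.isoWhiskerRight (braidCx _) _ ≪≫
    (flipIso (projectiveResolution M) p).symm

/-- `Tor` is symmetric. -/
noncomputable def symmIso (p : ℕ) :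
    CategoryTheory.Tor (ModuleCat.{u} A) p ≅ (CategoryTheory.Tor (ModuleCat.{u} A) p).flip :=
  NatIso.ofComponents (symmObj p) fun {M M'} f => by
    ext N : 2
    let φ := ProjectiveResolution.lift f (projectiveResolution M) (projectiveResolution M')
    have comm := ProjectiveResolution.lift_commutes_zero f (projectiveResolution M) (projectiveResolution M')
    rw [NatTrans.comp_app, NatTrans.comp_app]
    refine sq_trans (x := balanceObj (projectiveResolution M) p (projectiveResolution N))
      (x' := balanceObj (projectiveResolution M') p (projectiveResolution N))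
      (balanceObj_naturality_left p f (projectiveResolution M) (projectiveResolution M') φ comm _)
      (sq_trans (sq_map (HomologicalComplex.homologyFunctor (ModuleCat.{u} A) (ComplexShape.down ℕ) p)
        (b := (((tensoringLeft (ModuleCat.{u} A)).obj N).mapHomologicalComplex _).map φ)
        (x := (braidCx _).app N) (x' := (braidCx _).app N) ?_)
      (sq_symm (x := (flipIso (projectiveResolution M) p).app N) (x' := (flipIso (projectiveResolution M') p).app N) ?_))
    · ext n : 1
      exact BraidedCategory.braiding_naturality_left (φ.f n) N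
    · exact ProjectiveResolution.isoLeftDerivedObj_hom_naturality f _ _ φ comm ((tensoringLeft (ModuleCat.{u} A)).obj N) p

end Groth.Agent.TorBalance
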